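import Groth.Agent.PicLaw.Basic

/-!
# Calculating with isomorphism classes of invertible modules in the Picard group

Use with `attribute [local instance] Groth.Agent.PicLaw.law` or `open scoped Groth.Agent.PicLaw`.
-/

set_option autoImplicit false
universe u

open CategoryTheory Limits AlgebraicGeometry

noncomputable section

namespace Groth.Agent.PicLaw

attribute [scoped instance] law

variable {X Y Z : Scheme.{u}}

theorem isInvertible_tensor {L M : X.Modules} (hL : PicF.IsInvertible L) (hM : PicF.IsInvertible M) :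
    PicF.IsInvertible (CohB1.tensorMod L M) := AmpleLib.isInvertible_tensorMod hL hM

/-- Pullback of invertible classes as a homomorphism. -/
abbrev pl (f : X ⟶ Y) : PicLoc.PicSet Y →* PicLoc.PicSet X := PicGrp.pullHom f (pullMul f)

theorem iso_iff {L M : X.Modules} (hL : PicF.IsInvertible L) (hM : PicF.IsInvertible M) :
    Nonempty (L ≅ M) ↔ PicGrp.cls L hL = PicGrp.cls M hM := (PicGrp.cls_eq_cls_iff hL hM).symm

theorem cls_tensor {L M : X.Modules} (hL : PicF.IsInvertible L) (hM : PicF.IsInvertible M) :
    PicGrp.cls (CohB1.tensorMod L M) (isInvertible_tensor hL hM) = PicGrp.cls L hL * PicGrp.cls M hM :=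
  Subtype.ext (PicGrp.cls_mul_cls_val hL hM).symm

theorem cls_pullback (f : X ⟶ Y) {L : Y.Modules} (hL : PicF.IsInvertible L) :
    PicGrp.cls ((Scheme.Modules.pullback f).obj L) (PicLoc.isInvertible_pullback f hL) =
      pl f (PicGrp.cls L hL) :=
  (PicGrp.pullHom_cls f (pullMul f) L hL).symm

theorem cls_one : PicGrp.cls (Coh.structureModule X) (PicLoc.isInvertible_structureModule X) = 1 :=
  PicGrp.cls_structureModule_eq_one

theorem pl_comp (f : X ⟶ Y) (g : Y ⟶ Z) (c : PicLoc.PicSet Z) : pl (f ≫ g) c = pl f (pl g c) :=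
  PicGrp.pullHom_comp_apply f g (pullMul f) (pullMul g) (pullMul (f ≫ g)) c

theorem pl_congr {f g : X ⟶ Y} (h : f = g) (c : PicLoc.PicSet Y) : pl f c = pl g c := by subst h; rfl

theorem pl_id (c : PicLoc.PicSet X) : pl (𝟙 X) c = c := PicGrp.pullHom_id_apply (pullMul (𝟙 X)) c

/-- A module tensored with which an invertible one becomes invertible is invertible up to the inverse. -/
theorem exists_cls_eq (c : PicLoc.PicSet X) :
    ∃ (L : X.Modules) (hL : PicF.IsInvertible L), c = PicGrp.cls L hL := PicGrp.exists_eq_cls c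

end Groth.Agent.PicLaw
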