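import Groth.Agent.PicLaw.Swap
import Groth.Prelude.Def_ThetaK

/-!
# The subscheme `K(L)` in terms of translations
-/

set_option autoImplicit false
universe u

open CategoryTheory MonoidalCategory CartesianMonoidalCategory MonObj AlgebraicGeometry

noncomputable section

namespace Groth.Agent.PicLaw.Mumford

open scoped Groth.Agent.PicLaw

theorem lambda_iff {W Y : Scheme.{u}} (m p q : W ⟶ Y) {L : Y.Modules} {N : W.Modules}
    (hL : PicF.IsInvertible L) (hN : PicF.IsInvertible N) :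
    AgPol.IsLambdaSheaf m p q L N ↔
      PicGrp.cls N hN * pl p (PicGrp.cls L hL) * pl q (PicGrp.cls L hL) = pl m (PicGrp.cls L hL) := by
  have hp := PicLoc.isInvertible_pullback p hL
  have hq := PicLoc.isInvertible_pullback q hL
  rw [AgPol.IsLambdaSheaf, iso_iff (isInvertible_tensor (isInvertible_tensor hN hp) hq)
    (PicLoc.isInvertible_pullback m hL), cls_tensor (isInvertible_tensor hN hp) hq, cls_tensor hN hp,
    cls_pullback p hL, cls_pullback q hL, cls_pullback m hL]

section general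

variable {S : Scheme.{u}} (X : Over S) [GrpObj X] {T : Over S}

theorem whisker_mul (x : T ⟶ X) : (X ◁ x) ≫ μ[X] = fst X T * (snd X T ≫ x) := by
  rw [Hom.mul_def]
  congr 1

/-- Pullback along a morphism of `S`-schemes. -/
abbrev op {A B : Over S} (f : A ⟶ B) : PicLoc.PicSet B.left →* PicLoc.PicSet A.left := pl f.left

theorem op_comp {A B C : Over S} (f : A ⟶ B) (g : B ⟶ C) (c : PicLoc.PicSet C.left) :
    op (f ≫ g) c = op f (op g c) := pl_comp f.left g.left c

variable (l : PicLoc.PicSet X.left)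

/-- `x` lies in `K(l)`, in additive language: `t_x^* l - l` comes from the base. -/
def InK (x : T ⟶ X) : Prop :=
  ∃ c : PicLoc.PicSet T.left, op (fst X T * (snd X T ≫ x)) l = op (fst X T) l * op (snd X T) c

theorem isMumfordTriv_iff (L : X.left.Modules) (hL : PicF.IsInvertible L) (x : T ⟶ X) :
    ThetaGrp.IsMumfordTriv X L x ↔ InK X (PicGrp.cls L hL) x := by
  constructor
  · rintro ⟨M, hM, h⟩
    refine ⟨PicGrp.cls M hM * op x (PicGrp.cls L hL), ?_⟩
    rw [lambda_iff _ _ _ hL (PicLoc.isInvertible_pullback _ hM), cls_pullback _ hM] at h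
    rw [← whisker_mul, map_mul, ← op_comp]
    refine h.symm.trans ?_
    show op (snd X T) (PicGrp.cls M hM) * op (fst X T) _ * op (snd X T ≫ x) _ = _
    ac_rfl
  · rintro ⟨c, hc⟩
    obtain ⟨M, hM, hMc⟩ := PicGrp.exists_eq_cls (c * (op x (PicGrp.cls L hL))⁻¹)
    refine ⟨M, hM, ?_⟩
    rw [lambda_iff _ _ _ hL (PicLoc.isInvertible_pullback _ hM), cls_pullback _ hM, ← hMc]
    show op (snd X T) _ * op (fst X T) _ * op (snd X T ≫ x) _ = op ((X ◁ x) ≫ μ[X]) _
    rw [whisker_mul, hc, op_comp, map_mul, map_inv]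
    rw [mul_right_comm, inv_mul_cancel_right, mul_comm]

theorem inK_one : InK X l (1 : T ⟶ X) :=
  ⟨1, by rw [MonObj.comp_one, _root_.mul_one, map_one, _root_.mul_one]⟩

theorem transl_comp (x y : T ⟶ X) :
    ThetaGrp.transl X y ≫ (fst X T * (snd X T ≫ x)) = fst X T * (snd X T ≫ (y * x)) := by
  rw [MonObj.comp_mul, ThetaGrp.transl_fst, ← Category.assoc, ThetaGrp.transl_snd, MonObj.comp_mul, _root_.mul_assoc]

variable {X l}

theorem InK.mul {x y : T ⟶ X} (hy : InK X l y) (hx : InK X l x) : InK X l (y * x) := by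
  obtain ⟨a, ha⟩ := hx
  obtain ⟨b, hb⟩ := hy
  refine ⟨b * a, ?_⟩
  rw [← transl_comp X x y, op_comp, ha, map_mul, ← op_comp, ← op_comp, ThetaGrp.transl_fst,
    ThetaGrp.transl_snd, hb, map_mul, _root_.mul_assoc]

theorem InK.inv {x : T ⟶ X} (hx : InK X l x) : InK X l x⁻¹ := by
  obtain ⟨a, ha⟩ := hx
  refine ⟨a⁻¹, ?_⟩
  have h := congrArg (op (ThetaGrp.transl X x⁻¹)) ha
  rw [map_mul, ← op_comp, ← op_comp, ← op_comp, transl_comp, inv_mul_cancel, MonObj.comp_one, _root_.mul_one,
    ThetaGrp.transl_fst, ThetaGrp.transl_snd] at h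
  rw [h, map_inv, mul_inv_cancel_right]

/-- The base class is `x^* l` if `l` is trivial on the unit section. -/
theorem eq_of_inK (he : op η[X] l = 1) {x : T ⟶ X} {c : PicLoc.PicSet T.left}
    (h : op (fst X T * (snd X T ≫ x)) l = op (fst X T) l * op (snd X T) c) : c = op x l := by
  have h' := congrArg (op (lift (1 : T ⟶ X) (𝟙 T))) h
  rw [map_mul, ← op_comp, ← op_comp, ← op_comp, MonObj.comp_mul, lift_fst, lift_snd_assoc,
    Category.id_comp, _root_.one_mul, lift_snd] at h'
  rw [Hom.one_def, op_comp, he, map_one, _root_.one_mul, show op (𝟙 T) c = c from pl_id c] at h'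
  exact h'.symm

theorem op_unit_eq_one (k : Type u) [Field k] {X : Over (Spec (CommRingCat.of k))} [GrpObj X]
    (l : PicLoc.PicSet X.left) : op η[X] l = 1 := by
  obtain ⟨L, hL, rfl⟩ := PicGrp.exists_eq_cls l
  rw [← cls_pullback _ hL]
  have : Subsingleton ↥(𝟙_ (Over (Spec (CommRingCat.of k)))).left :=
    inferInstanceAs (Subsingleton (PrimeSpectrum k))
  have : Nonempty ↥(𝟙_ (Over (Spec (CommRingCat.of k)))).left :=
    inferInstanceAs (Nonempty (PrimeSpectrum k))
  exact (PicGrp.cls_eq_one_iff _).mpr (nonempty_iso_of_subsingleton (PicLoc.isInvertible_pullback _ hL))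

theorem op_inv_mul_eq_one {B : Over S} [GrpObj B] (he : op η[X] l = 1) (j : B ⟶ X) [IsMonHom j]
    (hj : InK X l j) : op j l * op ((𝟙 B)⁻¹ ≫ j) l = 1 := by
  obtain ⟨c, hc⟩ := hj
  have hc' := eq_of_inK he hc
  subst hc'
  have h := congrArg (op (lift ((𝟙 B)⁻¹ ≫ j) (𝟙 B))) hc
  rw [map_mul, ← op_comp, ← op_comp, ← op_comp, MonObj.comp_mul, lift_fst, lift_snd_assoc,
    Category.id_comp, lift_snd] at h
  rw [show ((𝟙 B)⁻¹ ≫ j) * j = (1 : B ⟶ X) by
    rw [GrpObj.inv_comp, Category.id_comp, inv_mul_cancel]] at h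
  rw [Hom.one_def, op_comp, he, map_one, show op (𝟙 B) (op j l) = op j l from pl_id _] at h
  rw [mul_comm]; exact h.symm

end general

end Groth.Agent.PicLaw.Mumford
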