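import Groth.Agent.PicLaw.Calc
import Groth.Agent.AmpleLib.Twist
import Mathlib.Algebra.Category.ModuleCat.Presheaf.Monoidal

/-!
# A module which becomes invertible after tensoring with an invertible one is invertible
-/

set_option autoImplicit false
universe u

open CategoryTheory MonoidalCategory Limits AlgebraicGeometry Opposite TopologicalSpace

noncomputable section

namespace Groth.Agent.PicLaw

open Groth.Agent.QCoh Groth.Agent.Props.GenLocus Groth.Agent.Props.GenTensor

variable {X : Scheme.{u}}

/-- Symmetry of the tensor product of modules. -/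
def swapIso (M N : X.Modules) : CohB1.tensorMod M N ≅ CohB1.tensorMod N M :=
  (CohB1.sheafifyMod X).mapIso
    (show (CohB1.tensorPre M N : X.PresheafOfModules) ≅ CohB1.tensorPre N M from
      β_ (CohB1.toPMod M) (CohB1.toPMod N))

theorem isInvertible_of_tensor_right {M L : X.Modules} (hL : PicF.IsInvertible L)
    (hML : PicF.IsInvertible (CohB1.tensorMod M L)) : PicF.IsInvertible M := by
  refine AmpleLib.isInvertible_of_exists_isGen fun x => ?_
  obtain ⟨U, e, g, hx, he, hg⟩ := exists_isGen_pair hL hML x
  obtain ⟨m, hm⟩ := (AmpleLib.tmul_gen_bijective he M (le_refl U)).2 g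
  refine ⟨U, m, hx, fun V h => ?_⟩
  refine (Function.Bijective.of_comp_iff' (AmpleLib.tmul_gen_bijective he M h) _).mp ?_
  have hmV : tmul (res M h m) (res L h e) = res (CohB1.tensorMod M L) h g := by
    rw [← hm, res_tmul, res_res]
  convert hg V h using 1
  funext a
  simp only [Function.comp_apply, sm, tmul_smul_left, hmV]

theorem isInvertible_of_tensor_left {L M : X.Modules} (hL : PicF.IsInvertible L)
    (hLM : PicF.IsInvertible (CohB1.tensorMod L M)) : PicF.IsInvertible M :=
  isInvertible_of_tensor_right hL (PicCl.isInvertible_of_iso (swapIso L M) hLM)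

/-- An invertible module on a scheme with one point is trivial. -/
theorem nonempty_iso_of_subsingleton [Subsingleton X] [Nonempty X] {L : X.Modules}
    (hL : PicF.IsInvertible L) : Nonempty (L ≅ Coh.structureModule X) := by
  obtain ⟨U, e, hxU, he⟩ := exists_isGen hL (Classical.arbitrary X)
  refine nonempty_iso_of_transition (fun _ : Unit => U) (fun x => ⟨(), Subsingleton.elim (Classical.arbitrary X) x ▸ hxU⟩)
    (fun _ => e) (fun _ => he) (fun _ => one' U) (fun _ => isGen_one U) fun _ _ V hi hj => ⟨1, ?_, ?_⟩
  · rw [one_smul]
  · rw [one_smul]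

end Groth.Agent.PicLaw
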