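import Groth.Agent.AmpleLib.CompLemma
import Groth.Prelude.Def_PicGrp
import Groth.Prelude.Def_RefHull

/-!
# The group law on the Picard group

`PicLaw.law Y : PicGrp.Law Y` and `PicLaw.pullMul g : PicGrp.PullMul g`.
-/

set_option autoImplicit false
universe u v

open CategoryTheory Limits AlgebraicGeometry Opposite TopologicalSpace

noncomputable section

namespace Groth.Agent.PicLaw

open Groth.Agent.QCoh Groth.Agent.Props.GenLocus Groth.Agent.Props.GenTensor
open Groth.Agent.Props.GenPull Groth.Agent.PullStalk.Sky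

variable {X Y : Scheme.{u}}

/-- Modules with generators having the same transition functions are isomorphic. -/
theorem nonempty_iso_of_transition {M N : X.Modules} {ι : Type v} (W : ι → X.Opens)
    (hcov : ∀ x : X, ∃ i, x ∈ W i)
    (g : ∀ i, Γ(M, W i)) (hg : ∀ i, IsGen M (W i) (g i))
    (h : ∀ i, Γ(N, W i)) (hh : ∀ i, IsGen N (W i) (h i))
    (tr : ∀ (i j : ι) (V : X.Opens) (hi : V ≤ W i) (hj : V ≤ W j), ∃ u : Γ(X, V),
      res M hj (g j) = u • res M hi (g i) ∧ res N hj (h j) = u • res N hi (h i)) :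
    Nonempty (M ≅ N) := by
  obtain ⟨φ, -⟩ := AmpleLib.exists_iso_of_gen W
    (fun x _ => let ⟨i, hi⟩ := hcov x; Opens.mem_iSup.mpr ⟨i, hi⟩) g hg h hh
    (fun i j V hi hj w hw => by
      obtain ⟨u, hu, hu'⟩ := tr i j V hi hj
      rw [(hg i).injective hi (hw.symm.trans hu)]
      exact hu')
  exact ⟨φ⟩

theorem exists_isGen_pair {L M : X.Modules} (hL : PicF.IsInvertible L) (hM : PicF.IsInvertible M) (x : X) :
    ∃ (U : X.Opens) (e : Γ(L, U)) (f : Γ(M, U)), x ∈ U ∧ IsGen L U e ∧ IsGen M U f := by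
  obtain ⟨U, e, hU, he⟩ := exists_isGen hL x
  obtain ⟨V, f, hV, hf⟩ := exists_isGen hM x
  exact ⟨U ⊓ V, res L inf_le_left e, res M inf_le_right f, ⟨hU, hV⟩, he.restrict _, hf.restrict _⟩

/-- An index for common trivialisations of two modules. -/
structure Pair (L M : X.Modules) where
  U : X.Opens
  e : Γ(L, U)
  f : Γ(M, U)
  he : IsGen L U e
  hf : IsGen M U f

theorem tensor_comm {L M : X.Modules} (hL : PicF.IsInvertible L) (hM : PicF.IsInvertible M) :
    Nonempty (CohB1.tensorMod L M ≅ CohB1.tensorMod M L) := by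
  refine nonempty_iso_of_transition (fun i : Pair L M => i.U)
    (fun x => let ⟨U, e, f, hx, he, hf⟩ := exists_isGen_pair hL hM x; ⟨⟨U, e, f, he, hf⟩, hx⟩)
    (fun i => tmul i.e i.f) (fun i => isGen_tmul i.he i.hf)
    (fun i => tmul i.f i.e) (fun i => isGen_tmul i.hf i.he) ?_
  intro i j V hi hj
  obtain ⟨u, hu, -⟩ := i.he.exists_eq hi (res L hj j.e)
  obtain ⟨w, hw, -⟩ := i.hf.exists_eq hi (res M hj j.f)
  refine ⟨u * w, ?_, ?_⟩
  · rw [res_tmul, res_tmul, hu, hw, tmul_smul_left, tmul_smul_right, smul_smul]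
  · rw [res_tmul, res_tmul, hu, hw, tmul_smul_left, tmul_smul_right, smul_smul, mul_comm]

/-- An index for common trivialisations of three modules. -/
structure Triple (L M N : X.Modules) extends Pair L M where
  g : Γ(N, U)
  hg : IsGen N U g

theorem tensor_assoc {L M N : X.Modules} (hL : PicF.IsInvertible L) (hM : PicF.IsInvertible M)
    (hN : PicF.IsInvertible N) :
    Nonempty (CohB1.tensorMod (CohB1.tensorMod L M) N ≅ CohB1.tensorMod L (CohB1.tensorMod M N)) := by
  refine nonempty_iso_of_transition (fun i : Triple L M N => i.U) (fun x => ?_)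
    (fun i => tmul (tmul i.e i.f) i.g) (fun i => isGen_tmul (isGen_tmul i.he i.hf) i.hg)
    (fun i => tmul i.e (tmul i.f i.g)) (fun i => isGen_tmul i.he (isGen_tmul i.hf i.hg)) ?_
  · obtain ⟨U, e, f, hU, he, hf⟩ := exists_isGen_pair hL hM x
    obtain ⟨V, g, hV, hg⟩ := exists_isGen hN x
    exact ⟨⟨⟨U ⊓ V, res L inf_le_left e, res M inf_le_left f, he.restrict _, hf.restrict _⟩,
      res N inf_le_right g, hg.restrict _⟩, ⟨hU, hV⟩⟩
  intro i j V hi hj
  obtain ⟨u, hu, -⟩ := i.he.exists_eq hi (res L hj j.e)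
  obtain ⟨w, hw, -⟩ := i.hf.exists_eq hi (res M hj j.f)
  obtain ⟨z, hz, -⟩ := i.hg.exists_eq hi (res N hj j.g)
  refine ⟨u * w * z, ?_, ?_⟩
  · rw [res_tmul, res_tmul, res_tmul, res_tmul, hu, hw, hz]
    simp only [tmul_smul_left, tmul_smul_right, smul_smul]
    congr 1; ring
  · rw [res_tmul, res_tmul, res_tmul, res_tmul, hu, hw, hz]
    simp only [tmul_smul_left, tmul_smul_right, smul_smul]
    congr 1; ring

theorem res_one' {U V : X.Opens} (h : V ≤ U) :
    res (Coh.structureModule X) h (one' U) = one' V :=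
  (X.presheaf.map (homOfLE h).op).hom.map_one

theorem tensor_structureModule {L : X.Modules} (hL : PicF.IsInvertible L) :
    Nonempty (CohB1.tensorMod L (Coh.structureModule X) ≅ L) := by
  refine nonempty_iso_of_transition (fun i : Σ U : X.Opens, {e : Γ(L, U) // IsGen L U e} => i.1)
    (fun x => let ⟨U, e, hx, he⟩ := exists_isGen hL x; ⟨⟨U, e, he⟩, hx⟩)
    (fun i => tmul i.2.1 (one' i.1)) (fun i => isGen_tmul i.2.2 (isGen_one _))
    (fun i => i.2.1) (fun i => i.2.2) ?_
  intro i j V hi hj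
  obtain ⟨u, hu, -⟩ := i.2.2.exists_eq hi (res L hj j.2.1)
  refine ⟨u, ?_, hu⟩
  rw [res_tmul, res_tmul, hu, tmul_smul_left, res_one', res_one']

theorem pullback_tensor (f : X ⟶ Y) {L M : Y.Modules} (hL : PicF.IsInvertible L) (hM : PicF.IsInvertible M) :
    Nonempty ((Scheme.Modules.pullback f).obj (CohB1.tensorMod L M) ≅
      CohB1.tensorMod ((Scheme.Modules.pullback f).obj L) ((Scheme.Modules.pullback f).obj M)) := by
  refine nonempty_iso_of_transition (fun i : Pair L M => f ⁻¹ᵁ i.U)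
    (fun x => let ⟨U, e, g, hx, he, hg⟩ := exists_isGen_pair hL hM (f x); ⟨⟨U, e, g, he, hg⟩, hx⟩)
    (fun i => pb f (tmul i.e i.f)) (fun i => isGen_pb f (isGen_tmul i.he i.hf))
    (fun i => tmul (pb f i.e) (pb f i.f)) (fun i => isGen_tmul (isGen_pb f i.he) (isGen_pb f i.hf)) ?_
  intro i j V hi hj
  have hiU : i.U ⊓ j.U ≤ i.U := inf_le_left
  have hjU : i.U ⊓ j.U ≤ j.U := inf_le_right
  have hV : V ≤ f ⁻¹ᵁ (i.U ⊓ j.U) := fun z hz => ⟨hi hz, hj hz⟩
  obtain ⟨u, hu, -⟩ := i.he.exists_eq hiU (res L hjU j.e)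
  obtain ⟨w, hw, -⟩ := i.hf.exists_eq hiU (res M hjU j.f)
  have key : ∀ {N : Y.Modules} {ei : Γ(N, i.U)} {ej : Γ(N, j.U)} {c : Γ(Y, i.U ⊓ j.U)},
      res N hjU ej = c • res N hiU ei →
        res ((Scheme.Modules.pullback f).obj N) hj (pb f ej) =
          rres hV (f.app _ c) • res ((Scheme.Modules.pullback f).obj N) hi (pb f ei) := by
    intro N ei ej c hc
    have h1 := congrArg (LFFrame.unitSec f N (i.U ⊓ j.U)) hc
    rw [LFFrame.unitSec_smul, LFFrame.unitSec_res, LFFrame.unitSec_res] at h1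
    have h2 := congrArg (res _ hV) h1
    rwa [res_smul, res_res, res_res] at h2
  refine ⟨rres hV (f.app _ (u * w)), key ?_, ?_⟩
  · rw [res_tmul, res_tmul, hu, hw, tmul_smul_left, tmul_smul_right, smul_smul]
  · rw [res_tmul, res_tmul, key hu, key hw, tmul_smul_left, tmul_smul_right, smul_smul, map_mul, map_mul]

/-! ### The inverse -/

theorem bijective_toSpanSingleton_germ {L : X.Modules} {U : X.Opens} {e : Γ(L, U)} (he : IsGen L U e)
    (y : X) (hy : y ∈ U) :
    Function.Bijective (LinearMap.toSpanSingleton (X.presheaf.stalk y) (L.presheaf.stalk y) (germM L U y hy e)) := by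
  have h := ((isGen_iff_isFrame e).mp he).stalkComb_bijective y hy
  rw [show ⇑(LinearMap.toSpanSingleton (X.presheaf.stalk y) (L.presheaf.stalk y) (germM L U y hy e)) =
      ⇑(LFFrame.stalkComb L (fun _ : Fin 1 => e) y hy) ∘ (Equiv.funUnique (Fin 1) (X.presheaf.stalk y)).symm from
    funext fun a => by simp [LFFrame.stalkComb, Fintype.linearCombination_apply]]
  exact h.comp (Equiv.bijective _)

section dual

variable {L : X.Modules} {U : X.Opens} {e : Γ(L, U)} (he : IsGen L U e)

/-- The dual frame at a point. -/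
def dualAt (y : U) : RefHull.StalkHom L (Coh.structureModule X) y.1 :=
  (LinearMap.toSpanSingleton (X.presheaf.stalk y.1) _ (germM (Coh.structureModule X) U y.1 y.2 (one' U))).comp
    (LinearEquiv.ofBijective _ (bijective_toSpanSingleton_germ he y.1 y.2)).symm.toLinearMap

theorem dualAt_gen (y : U) :
    dualAt he y (germM L U y.1 y.2 e) = germM (Coh.structureModule X) U y.1 y.2 (one' U) := by
  have h : (LinearEquiv.ofBijective _ (bijective_toSpanSingleton_germ he y.1 y.2)).symm (germM L U y.1 y.2 e) = 1 := by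
    rw [LinearEquiv.symm_apply_eq, LinearEquiv.ofBijective_apply, LinearMap.toSpanSingleton_apply, one_smul]
  rw [dualAt, LinearMap.comp_apply, LinearEquiv.coe_toLinearMap, h, LinearMap.toSpanSingleton_apply, one_smul]

theorem germM_res' (M : X.Modules) {U V : X.Opens} (h : V ≤ U) (y : X) (hy : y ∈ V) (m : Γ(M, U)) :
    germM M V y hy (res M h m) = germM M U y (h hy) m :=
  M.presheaf.germ_res_apply (homOfLE h) y hy m

theorem isLocSect_dualAt : RefHull.IsLocSect L (Coh.structureModule X) (dualAt he) := by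
  intro V i m x
  obtain ⟨a, ha, -⟩ := he.exists_eq i.le m
  refine ⟨V, x.2, 𝟙 V, a • one' V, fun y => ?_⟩
  change dualAt he ⟨y.1, i.le y.2⟩ (germM L V y.1 y.2 m) = germM (Coh.structureModule X) V y.1 y.2 (a • one' V)
  rw [ha, germM_smul, map_smul, germM_res', germM_smul, dualAt_gen, ← res_one' i.le, germM_res']

/-- The dual frame. -/
def dualGen : Γ(RefHull.homSh L (Coh.structureModule X), U) := ⟨dualAt he, isLocSect_dualAt he⟩

theorem res_dualGen_apply {V : X.Opens} (h : V ≤ U) (y : V) :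
    (res (RefHull.homSh L (Coh.structureModule X)) h (dualGen he)).1 y = dualAt he ⟨y.1, h y.2⟩ := rfl

theorem smul_apply {V : X.Opens} (a : Γ(X, V)) (g : Γ(RefHull.homSh L (Coh.structureModule X), V)) (y : V) :
    (a • g).1 y = X.presheaf.germ V y.1 y.2 a • g.1 y := rfl

include he in
theorem eq_of_eval {V : X.Opens} (h : V ≤ U) (g g' : Γ(RefHull.homSh L (Coh.structureModule X), V))
    (hgg : ∀ y : V, g.1 y (germM L U y.1 (h y.2) e) = g'.1 y (germM L U y.1 (h y.2) e)) : g = g' := by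
  refine Subtype.ext (funext fun y => LinearMap.ext fun v => ?_)
  obtain ⟨a, rfl⟩ := (bijective_toSpanSingleton_germ he y.1 (h y.2)).2 v
  rw [LinearMap.toSpanSingleton_apply, map_smul, map_smul, hgg]

theorem exists_value (g : Γ(RefHull.homSh L (Coh.structureModule X), U)) :
    ∃ n : Γ(Coh.structureModule X, U), ∀ y : U,
      g.1 y (germM L U y.1 y.2 e) = germM (Coh.structureModule X) U y.1 y.2 n := by
  choose W hxW j n hn using fun x : U => RefHull.isLocSect_of_mem g U (𝟙 U) e x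
  obtain ⟨s, hs⟩ := exists_glue (Coh.structureModule X) (U := W) (fun x => (j x).le)
    (fun y hy => Opens.mem_iSup.mpr ⟨⟨y, hy⟩, hxW ⟨y, hy⟩⟩) n (fun a b => by
      refine TopCat.Presheaf.section_ext ⟨_, (Coh.structureModule X).isSheaf⟩ _ _ _ fun y hy => ?_
      change germM (Coh.structureModule X) _ y hy _ = germM (Coh.structureModule X) _ y hy _
      rw [germM_res', germM_res']
      exact (hn a ⟨y, hy.1⟩).symm.trans (hn b ⟨y, hy.2⟩))
  refine ⟨s, fun y => ?_⟩
  refine (hn y ⟨y.1, hxW y⟩).trans ?_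
  change germM (Coh.structureModule X) _ y.1 _ (n y) = _
  rw [← hs y, germM_res']

theorem isGen_dualGen : IsGen (RefHull.homSh L (Coh.structureModule X)) U (dualGen he) := by
  intro V h
  refine ⟨fun a b hab => ?_, fun g => ?_⟩
  · refine TopCat.Presheaf.section_ext X.sheaf V a b fun y hy => ?_
    have h1 := LinearMap.congr_fun (congrFun (congrArg Subtype.val hab) ⟨y, hy⟩) (germM L U y (h hy) e)
    simp only [smul_apply, res_dualGen_apply, LinearMap.smul_apply] at h1
    rw [dualAt_gen he ⟨y, h hy⟩] at h1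
    exact (bijective_toSpanSingleton_germ (isGen_one (X := X) U) y (h hy)).1 h1
  · obtain ⟨n, hn⟩ := exists_value (e := res L h e) g
    obtain ⟨a, ha, -⟩ := (isGen_one (X := X) V).exists_eq le_rfl n
    rw [res_self] at ha
    refine ⟨a, eq_of_eval he h _ _ fun y => ?_⟩
    have h1 := hn y
    rw [germM_res', ha, germM_smul] at h1
    rw [h1, ← res_one' h, germM_res']
    simp only [sm, smul_apply, res_dualGen_apply, LinearMap.smul_apply]
    rw [dualAt_gen he ⟨y.1, h y.2⟩]

end dual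

theorem exists_inverse {L : X.Modules} (hL : PicF.IsInvertible L) :
    ∃ M : X.Modules, PicF.IsInvertible M ∧
      Nonempty (CohB1.tensorMod L M ≅ Coh.structureModule X) := by
  refine ⟨RefHull.homSh L (Coh.structureModule X), AmpleLib.isInvertible_of_exists_isGen fun x =>
    let ⟨U, e, hx, he⟩ := exists_isGen hL x; ⟨U, dualGen he, hx, isGen_dualGen he⟩, ?_⟩
  refine nonempty_iso_of_transition (fun i : Σ U : X.Opens, {e : Γ(L, U) // IsGen L U e} => i.1)
    (fun x => let ⟨U, e, hx, he⟩ := exists_isGen hL x; ⟨⟨U, e, he⟩, hx⟩)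
    (fun i => tmul i.2.1 (dualGen i.2.2)) (fun i => isGen_tmul i.2.2 (isGen_dualGen i.2.2))
    (fun i => one' i.1) (fun i => isGen_one _) ?_
  rintro ⟨U, e, he⟩ ⟨U', e', he'⟩ V hi hj
  obtain ⟨u, hu, -⟩ := he.exists_eq hi (res L hj e')
  obtain ⟨w, hw, -⟩ := he'.exists_eq hj (res L hi e)
  have huw : w * u = 1 := he.injective hi (by rw [mul_smul, ← hu, ← hw, one_smul])
  have hd : res _ hj (dualGen he') = w • res (RefHull.homSh L (Coh.structureModule X)) hi (dualGen he) := by
    refine eq_of_eval he' hj _ _ fun y => ?_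
    rw [smul_apply, res_dualGen_apply, res_dualGen_apply, dualAt_gen he' ⟨y.1, hj y.2⟩,
      ← germM_res' L hj y.1 y.2 e', hu, germM_smul, map_smul, LinearMap.smul_apply, smul_smul,
      germM_res', dualAt_gen he ⟨y.1, hi y.2⟩, ← map_mul, mul_comm, huw, map_one, one_smul,
      ← germM_res' _ hj y.1 y.2, ← germM_res' _ hi y.1 y.2, res_one', res_one']
  refine ⟨1, ?_, by rw [one_smul, res_one', res_one']⟩
  dsimp only
  rw [res_tmul, res_tmul, hu, hd, tmul_smul_left, tmul_smul_right, smul_smul, mul_comm, huw]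

/-! ### The group law -/

/-- The group law of the Picard group. -/
@[instance_reducible]
def law (X : Scheme.{u}) : PicGrp.Law X :=
  let mul : PicLoc.PicSet X → PicLoc.PicSet X → PicLoc.PicSet X := fun a b =>
    ⟨PicGrp.mulCl a.1 b.1, by
      obtain ⟨_, L, rfl, hL⟩ := a
      obtain ⟨_, M, rfl, hM⟩ := b
      exact ⟨CohB1.tensorMod L M, rfl, AmpleLib.isInvertible_tensorMod hL hM⟩⟩
  have hcomm : ∀ a b, mul a b = mul b a := by
    rintro ⟨_, L, rfl, hL⟩ ⟨_, M, rfl, hM⟩
    exact Subtype.ext ((PicGrp.cl_eq_cl_iff _ _).mpr (tensor_comm hL hM))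
  have hinv : ∀ a : PicLoc.PicSet X, ∃ b, mul b a = PicLoc.unitPicSet X := by
    rintro ⟨_, L, rfl, hL⟩
    obtain ⟨M, hM, hLM⟩ := exists_inverse hL
    refine ⟨⟨_, M, rfl, hM⟩, ?_⟩
    refine (hcomm _ _).trans ?_
    exact Subtype.ext ((PicGrp.cl_eq_cl_iff _ _).mpr hLM)
  have hone : ∀ a, mul a (PicLoc.unitPicSet X) = a := by
    rintro ⟨_, L, rfl, hL⟩
    exact Subtype.ext ((PicGrp.cl_eq_cl_iff _ _).mpr (tensor_structureModule hL))
  { mul := mul
    one := PicLoc.unitPicSet X
    inv := fun a => (hinv a).choose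
    mul_assoc := by
      rintro ⟨_, L, rfl, hL⟩ ⟨_, M, rfl, hM⟩ ⟨_, N, rfl, hN⟩
      exact Subtype.ext ((PicGrp.cl_eq_cl_iff _ _).mpr (tensor_assoc hL hM hN))
    one_mul := fun a => (hcomm _ a).trans (hone a)
    mul_one := hone
    mul_comm := hcomm
    inv_mul_cancel := fun a => (hinv a).choose_spec
    mul_val := fun _ _ => rfl
    one_eq := rfl }

/-- Pullback is multiplicative on invertible classes. -/
theorem pullMul (f : X ⟶ Y) : PicGrp.PullMul f := by
  rintro _ _ ⟨L, rfl, hL⟩ ⟨M, rfl, hM⟩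
  exact (PicGrp.cl_eq_cl_iff _ _).mpr (pullback_tensor f hL hM)

end Groth.Agent.PicLaw
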